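import Groth.Agent.HilbPoly.Euler

/-!
# Inequalities from the long exact cohomology sequence

`hdim_mid_le`, `hdim_left_le`, `hdim_right_le`, `hdim_left_zero_le`.
-/

universe u

open CategoryTheory CategoryTheory.Limits AlgebraicGeometry Opposite TopologicalSpace
open scoped Groth.Agent.CohVanish

set_option backward.isDefEq.respectTransparency false

namespace Groth.Agent.HdimLES

open Groth.Agent.CohVanish Groth.Agent.CechCmp Groth.Agent.CohFinite Groth.Agent.HilbPoly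

variable (k : Type u) [Field k] {X : Scheme.{u}} [X.Over (Spec (CommRingCat.of k))]
  [IsProper (X ↘ Spec (CommRingCat.of k))]

theorem hdim_le_all {S : ShortComplex X.Modules} (hS : S.ShortExact) (h₁ : Coh.IsCoh S.X₁)
    (h₂ : Coh.IsCoh S.X₂) (h₃ : Coh.IsCoh S.X₃) (p : ℕ) :
    hdim k X S.X₂ p ≤ hdim k X S.X₁ p + hdim k X S.X₃ p ∧
    hdim k X S.X₁ (p + 1) ≤ hdim k X S.X₂ (p + 1) + hdim k X S.X₃ p ∧
    hdim k X S.X₃ p ≤ hdim k X S.X₂ p + hdim k X S.X₁ (p + 1) ∧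
    hdim k X S.X₁ 0 ≤ hdim k X S.X₂ 0 := by
  let φ := Coh.toGlobal (X ↘ Spec (CommRingCat.of k))
  let T := modSES φ S hS
  let f := fun p => mapHMod T.f ⊤ p
  let g := fun p => mapHMod T.g ⊤ p
  let δ := fun p => T.delta ⊤ p
  have fin : ∀ {M : X.Modules}, Coh.IsCoh M → ∀ p, Module.Finite k (HMod (modRSh φ M) ⊤ p) :=
    fun hM p => allFin_of_isProper (X ↘ Spec (CommRingCat.of k)) _ hM p
  have hd : ∀ (M : X.Modules) p, hdim k X M p = Module.finrank k (HMod (modRSh φ M) ⊤ p) := fun M p => by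
    unfold hdim
    rw [(hhEquiv M p).finrank_eq]
  have : Module.Finite k (HMod T.X₁ ⊤ p) := fin h₁ p
  have : Module.Finite k (HMod T.X₂ ⊤ p) := fin h₂ p
  have : Module.Finite k (HMod T.X₃ ⊤ p) := fin h₃ p
  have : Module.Finite k (HMod T.X₁ ⊤ (p + 1)) := fin h₁ (p + 1)
  have : Module.Finite k (HMod T.X₂ ⊤ (p + 1)) := fin h₂ (p + 1)
  have : Module.Finite k (HMod T.X₂ ⊤ 0) := fin h₂ 0
  have e1 : LinearMap.ker (g p) = LinearMap.range (f p) := by
    ext x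
    refine ⟨fun hx => (eMap_g_eq_zero_iff (S := T.sc) T.shortExact ⊤ p x).1 hx, ?_⟩
    rintro ⟨y, rfl⟩
    exact (eMap_g_eq_zero_iff (S := T.sc) T.shortExact ⊤ p _).2 ⟨y, rfl⟩
  have e2 : LinearMap.ker (δ p) = LinearMap.range (g p) := by
    ext x
    refine ⟨fun hx => (eDelta_eq_zero_iff (S := T.sc) T.shortExact ⊤ p x).1 hx, ?_⟩
    rintro ⟨y, rfl⟩
    exact (eDelta_eq_zero_iff (S := T.sc) T.shortExact ⊤ p _).2 ⟨y, rfl⟩
  have e3 : LinearMap.ker (f (p + 1)) = LinearMap.range (δ p) := by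
    ext x
    refine ⟨fun hx => (eMap_f_eq_zero_iff (S := T.sc) T.shortExact ⊤ p x).1 hx, ?_⟩
    rintro ⟨y, rfl⟩
    exact (eMap_f_eq_zero_iff (S := T.sc) T.shortExact ⊤ p _).2 ⟨y, rfl⟩
  have r1 := (f p).finrank_range_add_finrank_ker
  have r2 := (g p).finrank_range_add_finrank_ker
  have r3 := (δ p).finrank_range_add_finrank_ker
  have r4 := (f (p + 1)).finrank_range_add_finrank_ker
  rw [e1] at r2
  rw [e2] at r3
  rw [e3] at r4
  have l4 := Submodule.finrank_le (LinearMap.range (f (p + 1)))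
  have l3 := Submodule.finrank_le (LinearMap.range (g p))
  have l1 := Submodule.finrank_le (LinearMap.range (δ p))
  have l0 : Module.finrank k (HMod T.X₁ ⊤ 0) ≤ Module.finrank k (HMod T.X₂ ⊤ 0) :=
    LinearMap.finrank_le_finrank_of_injective (f := f 0) (eMap_injective_of_mono T.shortExact.mono_f ⊤)
  rw [hd, hd, hd, hd, hd, hd, hd]
  change (Module.finrank k (HMod T.X₂ ⊤ p) : ℤ) ≤ Module.finrank k (HMod T.X₁ ⊤ p) + Module.finrank k (HMod T.X₃ ⊤ p) ∧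
    (Module.finrank k (HMod T.X₁ ⊤ (p + 1)) : ℤ) ≤ Module.finrank k (HMod T.X₂ ⊤ (p + 1)) + Module.finrank k (HMod T.X₃ ⊤ p) ∧
    (Module.finrank k (HMod T.X₃ ⊤ p) : ℤ) ≤ Module.finrank k (HMod T.X₂ ⊤ p) + Module.finrank k (HMod T.X₁ ⊤ (p + 1)) ∧
    (Module.finrank k (HMod T.X₁ ⊤ 0) : ℤ) ≤ Module.finrank k (HMod T.X₂ ⊤ 0)
  refine ⟨?_, ?_, ?_, ?_⟩ <;> omega

end Groth.Agent.HdimLES
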